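import Groth.Agent.Lib.TatePol22.Geometric
import Groth.Agent.Lib.AgPol22.Subscheme
import Groth.Agent.Lib.RosTrace22.Lambda
import Groth.Agent.Lib.RRKL13.RR
import Groth.Agent.Lib.RRKL13.BaseChange
import Groth.Agent.Lib.KernelKL22.Basic
import Groth.Agent.Lib.Seesaw13.KL
import Groth.Agent.Lib.BTProj23.Basic
import Groth.Agent.Lib.CubeField.AmpleDescent
import Groth.Agent.Lib.RR22.Classify
import Groth.Agent.Lib.AlgEquiv22.Ample

/-!
# An ample module of bounded Euler characteristic from a polarisation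
-/

universe u

open CategoryTheory Limits MonoidalCategory CartesianMonoidalCategory AlgebraicGeometry
open scoped MonObj GrpObj CategoryTheory.Obj

set_option linter.style.haveILetI false
set_option linter.unusedSectionVars false
set_option maxHeartbeats 1000000
set_option synthInstance.maxHeartbeats 400000
set_option backward.isDefEq.respectTransparency false

noncomputable section

namespace Groth.Agent.TatePol22

open Groth.Agent.Index22 Groth.Agent.AlgEquiv22

noncomputable local instance instLawTatePolB (Y : Scheme.{u}) : PicGrp.Law Y := M2.law Y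

variable {k : Type u} [Field k] {A At : Over (Spec (CommRingCat.of k))} [GrpObj A] [IsCommMonObj A]
  [IsProper A.hom] [GeometricallyIntegral A.hom] [GrpObj At] [IsCommMonObj At] {φ : AgPol.DualMap A At}

theorem cancel₁ {G : Type*} [CommGroup G] {m a b t : G} (h : m * a * b = t) : t * a⁻¹ * b⁻¹ = m := by
  subst h
  rw [mul_right_comm m a b, mul_inv_cancel_right, mul_inv_cancel_right]

theorem cancel₂ {G : Type*} [CommGroup G] (a b c p q r : G) :
    a * (p * p)⁻¹ * (b * (q * q)⁻¹)⁻¹ * (c * (r * r)⁻¹)⁻¹ =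
      a * b⁻¹ * c⁻¹ * (p * q⁻¹ * r⁻¹ * (p * q⁻¹ * r⁻¹))⁻¹ := by
  simp only [mul_inv_rev, inv_inv]
  simp only [mul_comm, mul_left_comm, mul_assoc]

/-- Twice a polarisation comes from an ample module of bounded Euler characteristic. -/
theorem exists_ample_bound (hX : AbDual.IsDualAV Scheme.fppfPrecoverage A At φ) (lam : A ⟶ At)
    (hpol : AgPol.IsPolarization A At φ lam) {d : ℕ} (hd : AgPol.HasDegSq lam d) {g : ℕ}
    (hg : topologicalKrullDim A.left = g) :
    ∃ L : A.left.Modules, CohB1.IsAmple L ∧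
      (@Curv2.euler k _ A.left ⟨A.hom⟩ L).natAbs ≤ 2 ^ (2 * g) * d ^ 2 := by
  haveI : IsMonHom lam := hpol.1
  haveI : Smooth A.hom := RosTrace22.smooth_hom
  haveI : GeometricallyConnected A.hom := RosTrace22.geometricallyConnected_hom
  obtain ⟨ξ, hξ⟩ : ∃ ξ, AbDual.IsPoincareCl A At φ ξ := by
    obtain ⟨c, hc, ht, h⟩ := RigDesc22.exists_rig A.hom η[A].left (Over.w η[A]) (RigDesc22.good_picZero A.hom)
      hX.relPic.natural hX.relPic.locallySurjective hX.relPic.locallyInjective
      (fun U τ => AbDual21.bijective_appTop_snd A U τ) At (𝟙 At)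
    exact ⟨c, hc, h, ht⟩
  obtain ⟨L, hL, hLc⟩ := PicGrp.exists_eq_cls (AgPol22.graphCl hξ lam)
  have hlamL : AgPol.IsLambda A At φ L (lam * lam) :=
    AgPol22.isLambda_sq hX hξ lam hpol L (by rw [hLc, PicGrp.cls_val])
  haveI : CompactSpace A.left := QuasiCompact.compactSpace_of_compactSpace A.hom
  haveI : A.left.IsSeparated := ⟨by rw [← terminal.comp_from A.hom]; infer_instance⟩
  haveI hGI : GeometricallyIntegral (bar A).hom := inferInstance
  haveI : IsProper (bar A).hom := inferInstance
  refine ⟨L, ?_, ?_⟩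
  · -- ampleness
    obtain ⟨M, hMa, N, hN, w, hw1, hw2, hs, hwP⟩ :=
      exists_mum_geometric hX hξ lam (φbar k) (hpol.2 (AlgebraicClosure k) (φbar k))
    let G := bar A
    let w' : (Over.map (φbar k)).obj (G ⊗ G) ⟶ A ⊗ A :=
      lift (DiagGL.fl (φbar k) A (fst G G)) (DiagGL.fl (φbar k) A (snd G G))
    have hw : w = w'.left := by
      refine pullback.hom_ext (hw1.trans ?_) (hw2.trans ?_)
      · exact (congrArg Over.Hom.left (lift_fst (DiagGL.fl (φbar k) A (fst G G)) (DiagGL.fl (φbar k) A (snd G G)))).symm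
      · exact (congrArg Over.Hom.left (lift_snd (DiagGL.fl (φbar k) A (fst G G)) (DiagGL.fl (φbar k) A (snd G G)))).symm
    set c := PicGrp.cls L hL with hc
    let cb : PicLoc.PicSet G.left := PicGrp.pullHom (prj A) (M2.pullMul _) c
    let cM : PicLoc.PicSet G.left := PicGrp.cls M hMa.1
    have hcorr : PicGrp.pullHom w'.left (M2.pullMul _) (AgPol22.corr hξ lam) =
        (PicGrp.cls N hN : PicLoc.PicSet (G ⊗ G).left) := by
      apply Subtype.ext
      rw [PicGrp.pullHom_apply_val, ← hw, PicGrp.cls_val]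
      exact hwP
    have hN2 : (PicGrp.cls N hN : PicLoc.PicSet (G ⊗ G).left) = RR22.mumC cM :=
      (RosTrace22.isLambdaSheaf_iff hMa.1 hN).1 hs
    have hfl : ∀ x : G ⊗ G ⟶ G, PicGrp.pullHom (DiagGL.fl (φbar k) A x).left (M2.pullMul _) c = pb x cb := fun x =>
      Subtype.ext (by
        rw [PicGrp.pullHom_apply_val, PicGrp.pullHom_apply_val, PicGrp.pullHom_apply_val]
        exact (PicDesc21.pullCl_pullCl _ _ _).symm)
    have key : RR22.mumC cM * RR22.mumC cM * pb (fst G G) cb * pb (snd G G) cb = pb (fst G G * snd G G) cb := by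
      have h := congrArg (PicGrp.pullHom w'.left (M2.pullMul _)) (AgPol22.corr_mul_corr hX hξ lam hpol)
      rw [RosTrace22.mu_eq, hLc] at h
      simp only [map_mul, hcorr, hN2] at h
      have hcomp : ∀ y : A ⊗ A ⟶ A, PicGrp.pullHom w'.left (M2.pullMul _) (AgPol22.pb y c) =
          PicGrp.pullHom (w' ≫ y).left (M2.pullMul _) c := fun y => Subtype.ext (by
        rw [PicGrp.pullHom_apply_val, PicGrp.pullHom_apply_val, PicGrp.pullHom_apply_val]
        exact PicDesc21.pullCl_pullCl _ _ _)
      rw [hcomp, hcomp, hcomp, MonObj.comp_mul, lift_fst, lift_snd, ← DiagGL.fl_mul, hfl, hfl, hfl] at h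
      exact h
    let e : PicLoc.PicSet G.left := cb * (cM * cM)⁻¹
    have hcb : RR22.mumC cb = RR22.mumC cM * RR22.mumC cM := by
      exact cancel₁ key
    have he1 : RR22.mumC e = 1 := by
      have hh : RR22.mumC e = RR22.mumC cb * (RR22.mumC cM * RR22.mumC cM)⁻¹ := by
        simp only [e, RR22.mumC, map_mul, map_inv]
        exact cancel₂ _ _ _ _ _ _
      rw [hh, hcb, mul_inv_cancel]
    have hadd : Add e := fun V f f' => by
      have h := congrArg (pb (lift f f')) he1
      simp only [RR22.mumC, map_one, map_mul, map_inv, pb_pb, MonObj.comp_mul, lift_fst, lift_snd] at h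
      rw [mul_inv_eq_one, mul_inv_eq_iff_eq_mul] at h
      exact h.trans (mul_comm _ _)
    obtain ⟨E, hE, hEc⟩ := PicGrp.exists_eq_cls e
    have hM2 : CohB1.IsAmple (CohB1.tensorPow M 2) := (Amp.isAmple_tensorPow_iff hMa.1 (by omega)).2 hMa
    have hT := AlgEquiv22.isAmple_tensor_of_add hM2 hE (hEc ▸ hadd)
    refine CubeField.isAmple_of_pullback_field _ (IsPullback.of_hasPullback A.hom (φbar k)) hL ?_
    refine Amp.isAmple_of_iso ?_ hT
    refine ((PicGrp.cls_eq_cls_iff (M2.isInvertible_tensor hM2.1 hE) (PicLoc.isInvertible_pullback (prj A) hL)).1 ?_).some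
    rw [← PicGrp.pullHom_cls _ (M2.pullMul _) _ hL]
    show _ = cb
    rw [← AlgEquiv22.cls_tensor hM2.1 hE, ← hEc,
      show (PicGrp.cls (CohB1.tensorPow M 2) hM2.1 : PicLoc.PicSet G.left) = cM ^ 2 from
        Subtype.ext (by rw [PicGrp.cls_pow_val, PicGrp.cls_val]), pow_two]
    simp only [e]
    rw [mul_comm cb, mul_inv_cancel_left]
  · -- the Euler characteristic
    obtain ⟨K, i, hK⟩ := Seesaw13.exists_isKL (A := A) hL
    have hker : IsPullback i (toUnit K) (lam * lam) η[At] := KernelKL22.isKernel_KL hX hL hlamL hK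
    have hfac : lam * lam = (𝟙 A ^ 2) ≫ lam := by rw [MonObj.pow_comp, Category.id_comp, pow_two]
    obtain ⟨h2f, h2fl, -⟩ := AVDegree22.isFinite_flat_surjective_pow A (show 0 < 2 by omega)
    haveI := h2f; haveI := h2fl
    haveI := hd.1; haveI := hd.2.1
    have hfin : IsFinite (lam * lam).left ∧ Flat (lam * lam).left ∧
        ∀ y, (lam * lam).left.finrank y = 2 ^ (2 * g) * d ^ 2 := by
      rw [hfac, Over.comp_left]
      exact ⟨inferInstance, inferInstance, fun y => by
        rw [BTProj23.finrank_comp _ _ _ (AVDegree22.finrank_pow A hg (show 0 < 2 by omega)) y, hd.2.2.2]⟩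
    haveI := hfin.1
    haveI := hfin.2.1
    have hsq : IsPullback i.left (toUnit K).left (lam * lam).left η[At].left := IsPullback.map (Over.forget _) hker
    have e : (toUnit K).left = K.hom := Over.toUnit_left
    haveI : IsFinite K.hom := e ▸ MorphismProperty.of_isPullback (P := @IsFinite) hsq hfin.1
    haveI : Flat K.hom := e ▸ MorphismProperty.of_isPullback (P := @Flat) hsq hfin.2.1
    have hrk : ∀ s, Scheme.Hom.finrank K.hom s = 2 ^ (2 * g) * d ^ 2 := fun s => by
      have h := Scheme.Hom.finrank_of_isPullback _ _ _ _ hsq s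
      rw [hfin.2.2] at h
      exact ((RRKL13.finrank_eq_of_eq e s).symm.trans h)
    let Kb := (Over.pullback (φbar k)).obj K
    have hKb : IsPullback (pullback.fst K.hom (φbar k)) Kb.hom K.hom (φbar k) := IsPullback.of_hasPullback _ _
    haveI : IsFinite Kb.hom := MorphismProperty.of_isPullback (P := @IsFinite) hKb ‹_›
    haveI : IsCommMonObj (bar A) := isCommMonObj_of_isProper_of_geometricallyIntegral _
    have hsqe := RRKL13.euler_sq_KL (PicLoc.isInvertible_pullback (prj A) hL) (RRKL13.isKL_bar hL hK)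
      (d := 2 ^ (2 * g) * d ^ 2) (fun s => by
        rw [Scheme.Hom.finrank_of_isPullback _ _ _ _ hKb s, hrk])
      ((topologicalKrullDim_bar (A := A)).trans hg)
    rw [RR22.euler_bar hL] at hsqe
    have h := congrArg Int.natAbs hsqe
    rw [Int.natAbs_pow, Int.natAbs_natCast] at h
    exact (Nat.le_self_pow two_ne_zero _).trans h.le

end Groth.Agent.TatePol22

end
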