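import Groth.Agent.Lib.AgPol22.Poincare

/-!
# The Mumford class of an ample module on a geometric fibre through the Poincaré class
-/

universe u

open CategoryTheory CategoryTheory.Limits MonoidalCategory CartesianMonoidalCategory AlgebraicGeometry

open scoped MonObj GrpObj CategoryTheory.Obj

set_option backward.isDefEq.respectTransparency false
set_option linter.style.haveILetI false
set_option linter.unusedSectionVars false
set_option maxHeartbeats 1000000

noncomputable section

namespace Groth.Agent.TatePol22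

open Groth.Agent.AgPol22 Groth.Agent.Seesaw22 Groth.Agent.CubeField Groth.Agent.AbDual21 Groth.Agent.PicDesc21

noncomputable local instance instLawTatePol (Y : Scheme.{u}) : PicGrp.Law Y := M2.law Y

variable {S : Scheme.{u}} {A At : Over S} [GrpObj A] [GrpObj At] [IsProper A.hom] [Smooth A.hom]
  [GeometricallyConnected A.hom] [IsCommMonObj A] {φ : AgPol.DualMap A At} {ξ : PicF.Cl (PicF.XT A.hom At)}

/-- On a geometric fibre the Poincaré class pulled along a polarisation is the Mumford class of an ample module. -/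
theorem exists_mum_geometric (hX : AbDual.IsDualAV Scheme.fppfPrecoverage A At φ)
    (hξ : AbDual.IsPoincareCl A At φ ξ) (lam : A ⟶ At) [IsMonHom lam]
    {Ω : Type u} [Field Ω] [IsAlgClosed Ω] (t : Spec (CommRingCat.of Ω) ⟶ S)
    (ht : ∃ M : (Red.bc t A).left.Modules, CohB1.IsAmple M ∧
      AgPol.IsLambda (Red.bc t A) (Red.bc t At) (AgPol.bcDual t A At φ) M ((Over.pullback t).map lam)) :
    ∃ (M : (Red.bc t A).left.Modules) (hMa : CohB1.IsAmple M) (N : (PicF.XT (Red.bc t A).hom (Red.bc t A)).Modules)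
      (hN : PicF.IsInvertible N) (w : (Red.bc t A ⊗ Red.bc t A).left ⟶ (A ⊗ A).left),
      w ≫ (fst A A).left = (fst (Red.bc t A) (Red.bc t A)).left ≫ pullback.fst A.hom t ∧
      w ≫ (snd A A).left = (snd (Red.bc t A) (Red.bc t A)).left ≫ pullback.fst A.hom t ∧
      AgPol.IsLambdaSheaf (μ[Red.bc t A].left : PicF.XT (Red.bc t A).hom (Red.bc t A) ⟶ (Red.bc t A).left)
        (fst (Red.bc t A) (Red.bc t A)).left (snd (Red.bc t A) (Red.bc t A)).left M N ∧
      PicF.pullCl w (corr hξ lam).1 = PicF.cl N := by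
  let a : Over.mk (pullback.snd A.hom t ≫ t) ⟶ A := Over.homMk (pullback.fst A.hom t) pullback.condition
  have ha : a.left = pullback.fst A.hom t := rfl
  obtain ⟨M, hMa, N, hN, hs, hφN⟩ := ht
  have hM : PicF.IsInvertible M := hMa.1
  haveI := PicSep22.geometricallyIntegral_of_smooth A.hom
  haveI := AbRigid.geometricallyReduced_of_smooth A.hom
  let G : Over (Spec (CommRingCat.of Ω)) := Red.bc t A
  haveI : IsProper G.hom := inferInstanceAs (IsProper (pullback.snd A.hom t))
  haveI : GeometricallyIntegral G.hom := inferInstanceAs (GeometricallyIntegral (pullback.snd A.hom t))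
  let V : Over S := Over.mk (pullback.snd A.hom t ≫ t)
  let F := Over.pullback t
  let j := AgPol.bcXTIso t A G
  have hj1 : j.inv ≫ pullback.fst G.hom G.hom ≫ pullback.fst A.hom t = pullback.fst A.hom V.hom := by
    simp [j, AgPol.bcXTIso, G, V]
  have hj2 : j.inv ≫ pullback.snd G.hom G.hom = pullback.snd A.hom V.hom := by
    simp [j, AgPol.bcXTIso, G, V]
  -- the point of the dual
  have hN0 : AbDual.IsPicZeroCl A.hom V (PicF.pullCl j.inv (PicF.cl N)) := by
    obtain ⟨hi, hz⟩ := isPicZeroCl_iff.1 (picZero_mum hM hN hs)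
    rw [isPicZeroCl_iff]
    refine ⟨isInvertibleCl_pull _ hi, fun Ω' _ _ σ => ?_⟩
    let kk : pullback (PicF.XTproj A.hom V) σ ⟶ pullback (PicF.XTproj G.hom G) σ :=
      pullback.lift (pullback.fst _ _ ≫ j.inv) (pullback.snd _ _)
        (by rw [Category.assoc, ← pullback.condition]; exact congrArg _ hj2)
    have h1 := algZ_pull kk (pullback.lift_snd _ _ _) (hz Ω' σ)
    rw [pullCl_pullCl, pullback.lift_fst] at h1
    rwa [pullCl_pullCl]
  have hφ' : φ V (PicF.pullCl j.inv (PicF.cl N)) = a ≫ lam := by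
    apply Over.OverMorphism.ext
    have h := congrArg (fun m => m.left ≫ pullback.fst At.hom t) hφN
    simp only [Over.pullback_map_left] at h
    erw [pullback.lift_fst, pullback.lift_fst] at h
    rw [Over.comp_left, ha]
    exact h
  -- rigidification
  have hone : (1 : G ⟶ G).left ≫ pullback.fst A.hom t = (1 : V ⟶ A).left := by
    have h1 : F.map (1 : A ⟶ A) = (1 : F.obj A ⟶ F.obj A) := map_one (F.homMonoidHom (X := A) (M := A))
    have h2 := congrArg (fun m => m.left ≫ pullback.fst A.hom t) h1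
    simp only [F, Over.pullback_map_left] at h2
    erw [pullback.lift_fst] at h2
    refine h2.symm.trans ?_
    rw [← ha, ← Over.comp_left, MonObj.comp_one]
  have hsec : (lift (1 : V ⟶ A) (𝟙 V)).left ≫ j.inv = (lift (1 : G ⟶ G) (𝟙 G)).left := by
    apply pullback.hom_ext
    · apply pullback.hom_ext
      · rw [Category.assoc, Category.assoc, hj1]
        refine (lift_left_fst (1 : V ⟶ A) (𝟙 V)).trans (hone.symm.trans ?_)
        exact congrArg (· ≫ pullback.fst A.hom t) (lift_left_fst (1 : G ⟶ G) (𝟙 G)).symm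
      · rw [Category.assoc, Category.assoc]
        refine Eq.trans ?_ ((Over.w (1 : G ⟶ G)).symm.trans
          (congrArg (· ≫ G.hom) (lift_left_fst (1 : G ⟶ G) (𝟙 G)).symm))
        refine (congrArg (fun z => (lift (1 : V ⟶ A) (𝟙 V)).left ≫ j.inv ≫ z)
          (pullback.condition (f := G.hom) (g := G.hom))).trans ?_
        rw [← Category.assoc j.inv, hj2, ← Category.assoc]
        exact (congrArg (· ≫ G.hom) (lift_left_snd (1 : V ⟶ A) (𝟙 V))).trans (Category.id_comp _)
    · rw [Category.assoc, hj2]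
      exact (lift_left_snd (1 : V ⟶ A) (𝟙 V)).trans (lift_left_snd (1 : G ⟶ G) (𝟙 G)).symm
  have hu : PicF.pullCl (lift (1 : G ⟶ G) (𝟙 G)).left (PicF.cl N) = PicF.cl (Coh.structureModule _) := by
    have h := mcls_mul (hL := hM) (hN := hN) hs (lift (1 : G ⟶ G) (𝟙 G))
    rw [lift_fst, lift_snd, _root_.one_mul] at h
    have h2 : Seesaw22.cls M hM (1 : G ⟶ G) = 1 := by
      rw [← MonObj.comp_one (f := toUnit G), ← Seesaw22.pullHom_cls, cls_one_field (Ω := Ω) rfl, map_one]
    rw [h2, _root_.mul_one, mul_eq_right] at h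
    have h3 := congrArg Subtype.val h
    rw [PicGrp.one_val, mcls, PicGrp.pullHom_apply_val] at h3
    exact h3
  have hP : (pb (A ◁ a) (corr hξ lam)).1 = PicF.pullCl j.inv (PicF.cl N) := by
    have hv : (pb (A ◁ a) (corr hξ lam)).1 = PicF.pullCl (A ◁ (a ≫ lam)).left ξ := by
      rw [corr_val, pb_pb, ← whiskerLeft_comp]
      exact PicGrp.pullHom_apply_val ..
    rw [hv]
    refine KernelKL22.eq_of_phi hX (picZero_whisker _ hξ.1) hN0 ?_ ?_
    · rw [hφ', phi_natural hX _ hξ.1, hξ.2.1, Category.comp_id]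
    · simp only [unitCl, pullCl_pullCl]
      rw [hsec, hu, ← Over.comp_left, lift_whiskerLeft, Category.id_comp]
      have h := congrArg Subtype.val (ev_one_left hξ (a ≫ lam))
      rw [PicGrp.one_val, ev, PicGrp.pullHom_apply_val] at h
      exact h
  let w : (G ⊗ G).left ⟶ (A ⊗ A).left := j.hom ≫ (A ◁ a).left
  have hw1 : w ≫ (fst A A).left = (fst G G).left ≫ pullback.fst A.hom t := by
    show (j.hom ≫ (A ◁ a).left) ≫ _ = _
    rw [Category.assoc, ← Over.comp_left, whiskerLeft_fst]
    rw [← cancel_epi j.inv, Iso.inv_hom_id_assoc]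
    exact hj1.symm
  have hw2 : w ≫ (snd A A).left = (snd G G).left ≫ pullback.fst A.hom t := by
    show (j.hom ≫ (A ◁ a).left) ≫ _ = _
    rw [Category.assoc, ← Over.comp_left, whiskerLeft_snd, Over.comp_left, ha]
    rw [← cancel_epi j.inv, Iso.inv_hom_id_assoc]
    exact ((congrArg (· ≫ pullback.fst A.hom t) hj2).symm.trans (Category.assoc _ _ _))
  have hwP : PicF.pullCl w (corr hξ lam).1 = PicF.cl N := by
    rw [← pullCl_pullCl, ← PicGrp.pullHom_apply_val (A ◁ a).left (M2.pullMul _), hP, pullCl_pullCl,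
      Iso.hom_inv_id]
    exact PicLoc.pullCl_id _
  exact ⟨M, hMa, N, hN, w, hw1, hw2, hs, hwP⟩

end Groth.Agent.TatePol22

end
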